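import Groth.Prelude.Def_W4c1chowmix47Eta
import Mathlib.RingTheory.Valuation.LocalSubring
import Mathlib.Algebra.CharP.Reduced
import Mathlib.Algebra.CharP.Algebra

/-! # Calculus of `η.N`, `η.M` through points with values in fields -/

set_option autoImplicit false

universe u

namespace Groth.Agent.H23EtaPt

open EtaPt

variable (η : FieldEndo.{u})

/-- The field `K` is closed for `η`. -/
def Closed (K : Type u) [Field K] : Prop := Function.Bijective (η.eta K)

theorem pow_inj {L : Type u} [CommRing L] [IsReduced L] (q : ℕ) [ExpChar L q] {n : ℕ} {a b : L}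
    (h : a ^ q ^ n = b ^ q ^ n) : a = b :=
  iterateFrobenius_inj L q n (by simpa [iterateFrobenius_def] using h)

theorem hom_ext {K L : Type u} [Field K] [Field L] {f g : η.obj K →+* L}
    (h : f.comp (η.eta K) = g.comp (η.eta K)) : f = g := by
  refine RingHom.ext fun x => ?_
  obtain ⟨n, c, hc⟩ := η.exists_pow_mem_range_eta K x
  haveI : ExpChar L (ringExpChar K) := expChar_of_injective_ringHom (f.comp (η.eta K)).injective _
  refine pow_inj (ringExpChar K) (n := n) ?_
  rw [← map_pow, ← map_pow, ← hc]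
  exact RingHom.congr_fun h c

theorem map_eta {K L : Type u} [Field K] [Field L] (f : K →+* L) (x : K) :
    η.map f (η.eta K x) = η.eta L (f x) :=
  RingHom.congr_fun (η.eta_natural f) x

theorem map_map {K L E : Type u} [Field K] [Field L] [Field E] (f : K →+* L) (g : L →+* E) (x : η.obj K) :
    η.map g (η.map f x) = η.map (g.comp f) x :=
  (RingHom.congr_fun (η.map_comp f g) x).symm

theorem map_injective {K L : Type u} [Field K] [Field L] (f : K →+* L) : Function.Injective (η.map f) :=
  (η.map f).injective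

theorem eta_obj_eq (K : Type u) [Field K] : η.eta (η.obj K) = η.map (η.eta K) :=
  hom_ext η (η.eta_natural (η.eta K)).symm

theorem closed_obj (K : Type u) [Field K] : Closed η (η.obj K) := by
  rw [Closed, eta_obj_eq]
  exact η.bijective_map_eta K

theorem closed_of_ringEquiv {K L : Type u} [Field K] [Field L] (e : K ≃+* L) (h : Closed η K) : Closed η L := by
  refine ⟨(η.eta L).injective, fun y => ?_⟩
  obtain ⟨x, hx⟩ := h.2 (η.map e.symm.toRingHom y)
  refine ⟨e x, map_injective η e.symm.toRingHom ?_⟩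
  rw [map_eta, ← hx]
  simp

theorem inV_iff {R : Type u} [CommRing R] [IsDomain R] (K : Type u) [Field K] [Algebra R K] [IsFractionRing R K] :
    η.InV R ↔ Closed η K :=
  ⟨closed_of_ringEquiv η (FractionRing.algEquiv R K).toRingEquiv,
    closed_of_ringEquiv η (FractionRing.algEquiv R K).symm.toRingEquiv⟩

/-! ## Points -/

variable {A : Type u} [CommRing A]

/-- The prime under a point. -/
def pt {L : Type u} [Field L] (φ : A →+* L) : PrimeSpectrum A := ⟨RingHom.ker φ, RingHom.ker_isPrime φ⟩

instance {L : Type u} [Field L] (φ : A →+* L) : (RingHom.ker φ).IsPrime := RingHom.ker_isPrime φ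

/-- The residue field map of a point. -/
noncomputable def ptHom {L : Type u} [Field L] (φ : A →+* L) : (pt φ).asIdeal.ResidueField →+* L :=
  Ideal.ResidueField.lift (pt φ).asIdeal φ le_rfl fun a (ha : a ∈ (pt φ).asIdeal.primeCompl) => isUnit_iff_ne_zero.mpr fun h => ha h

theorem ptHom_algebraMap {L : Type u} [Field L] (φ : A →+* L) (a : A) :
    ptHom φ (algebraMap A _ a) = φ a :=
  Ideal.ResidueField.lift_algebraMap _ φ le_rfl _ a

/-- Evaluation of an element of `η.N A` at a point. -/
noncomputable def ev {L : Type u} [Field L] (φ : A →+* L) : η.N A →+* η.obj L :=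
  (η.map (ptHom φ)).comp (Pi.evalRingHom (fun p : PrimeSpectrum A => η.obj p.asIdeal.ResidueField) (pt φ))

theorem ker_comp_algebraMap {L : Type u} [Field L] (p : PrimeSpectrum A) (j : p.asIdeal.ResidueField →+* L) :
    RingHom.ker (j.comp (algebraMap A p.asIdeal.ResidueField)) = p.asIdeal := by
  rw [RingHom.ker_comp_of_injective _ j.injective, Ideal.ker_algebraMap_residueField]

theorem map_eval {L : Type u} [Field L] (φ : A →+* L) (p : PrimeSpectrum A)
    (j : p.asIdeal.ResidueField →+* L) (hj : j.comp (algebraMap A p.asIdeal.ResidueField) = φ) (x : η.N A) :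
    η.map j (x p) = ev η φ x := by
  obtain rfl : p = pt φ := PrimeSpectrum.ext (by
    show p.asIdeal = RingHom.ker φ
    rw [← hj, ker_comp_algebraMap])
  obtain rfl : j = ptHom φ := Ideal.ResidueField.ringHom_ext (RingHom.ext fun a => by
    simp only [RingHom.comp_apply, ptHom_algebraMap]
    exact RingHom.congr_fun hj a)
  rfl

theorem ev_algebraMap (x : η.N A) (p : PrimeSpectrum A) :
    ev η (algebraMap A p.asIdeal.ResidueField) x = x p := by
  rw [← map_eval η _ p (RingHom.id _) (RingHom.id_comp _), η.map_id, RingHom.id_apply]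

theorem ev_t {L : Type u} [Field L] (φ : A →+* L) (a : A) : ev η φ (η.t A a) = η.eta L (φ a) := by
  show η.map (ptHom φ) (η.eta _ (algebraMap A _ a)) = _
  rw [map_eta, ptHom_algebraMap]

theorem map_ev {L L' : Type u} [Field L] [Field L'] (φ : A →+* L) (h : L →+* L') (x : η.N A) :
    η.map h (ev η φ x) = ev η (h.comp φ) x := by
  show η.map h (η.map (ptHom φ) (x (pt φ))) = _
  rw [map_map]
  refine map_eval η _ _ _ (RingHom.ext fun a => ?_) x
  simp only [RingHom.comp_apply, ptHom_algebraMap]

theorem ev_comp_eq {L L' : Type u} [Field L] [Field L'] (φ : A →+* L) (h : L →+* L') (x y : η.N A) :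
    ev η (h.comp φ) x = ev η (h.comp φ) y ↔ ev η φ x = ev η φ y := by
  rw [← map_ev, ← map_ev, (map_injective η h).eq_iff]

theorem ev_eq_zero_iff {L : Type u} [Field L] (φ : A →+* L) (p : PrimeSpectrum A) (h : RingHom.ker φ = p.asIdeal)
    (x : η.N A) : ev η φ x = 0 ↔ x p = 0 := by
  obtain rfl : p = pt φ := PrimeSpectrum.ext h.symm
  exact map_eq_zero (η.map (ptHom φ))

theorem ev_eq_iff {L : Type u} [Field L] (φ : A →+* L) (p : PrimeSpectrum A) (h : RingHom.ker φ = p.asIdeal)
    (x y : η.N A) : ev η φ x = ev η φ y ↔ x p = y p := by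
  rw [← sub_eq_zero, ← map_sub, ev_eq_zero_iff η φ p h, Pi.sub_apply, sub_eq_zero]

theorem N_ext {x y : η.N A}
    (h : ∀ p : PrimeSpectrum A, ev η (algebraMap A p.asIdeal.ResidueField) x = ev η (algebraMap A p.asIdeal.ResidueField) y) :
    x = y :=
  funext fun p => by rw [← ev_algebraMap η x, h, ev_algebraMap]

variable {B : Type u} [CommRing B]

theorem ev_Nmap {L : Type u} [Field L] (φ : B →+* L) (f : A →+* B) (x : η.N A) :
    ev η φ (η.Nmap f x) = ev η (φ.comp f) x := by
  show η.map (ptHom φ) (η.map _ (x (PrimeSpectrum.comap f (pt φ)))) = _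
  rw [map_map]
  refine map_eval η _ _ _ (RingHom.ext fun a => ?_) x
  rw [RingHom.comp_apply, RingHom.comp_apply, RingHom.comp_apply]
  exact (congrArg (ptHom φ) (Ideal.ResidueField.map_algebraMap _ _ f rfl a)).trans (ptHom_algebraMap φ (f a))

theorem Nmap_apply (f : A →+* B) (x : η.N A) (q : PrimeSpectrum B) :
    η.Nmap f x q = ev η ((algebraMap B q.asIdeal.ResidueField).comp f) x := by
  rw [← ev_Nmap, ev_algebraMap]

theorem Nmap_Nmap {C : Type u} [CommRing C] (f : A →+* B) (g : B →+* C) (x : η.N A) :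
    η.Nmap g (η.Nmap f x) = η.Nmap (g.comp f) x :=
  N_ext η fun q => by rw [ev_Nmap, ev_Nmap, ev_Nmap, RingHom.comp_assoc]

/-- The value of an element at a point of a closed field. -/
noncomputable def val {L : Type u} [Field L] (hL : Closed η L) (φ : A →+* L) : η.N A →+* L :=
  (RingEquiv.ofBijective (η.eta L) hL).symm.toRingHom.comp (ev η φ)

theorem eta_val {L : Type u} [Field L] (hL : Closed η L) (φ : A →+* L) (x : η.N A) :
    η.eta L (val η hL φ x) = ev η φ x :=
  (RingEquiv.ofBijective (η.eta L) hL).apply_symm_apply _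

theorem val_t {L : Type u} [Field L] (hL : Closed η L) (φ : A →+* L) (a : A) : val η hL φ (η.t A a) = φ a :=
  (η.eta L).injective (by rw [eta_val, ev_t])

/-- The tautological closed point over a prime. -/
noncomputable def gpt (p : PrimeSpectrum A) : A →+* η.obj p.asIdeal.ResidueField :=
  (η.eta _).comp (algebraMap A p.asIdeal.ResidueField)

theorem ker_gpt (p : PrimeSpectrum A) : RingHom.ker (gpt η p) = p.asIdeal := ker_comp_algebraMap p (η.eta _)

theorem val_gpt (p : PrimeSpectrum A) (x : η.N A) :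
    val η (closed_obj η p.asIdeal.ResidueField) (gpt η p) x = x p :=
  (η.eta _).injective (by rw [eta_val, gpt, ← map_ev, ev_algebraMap, eta_obj_eq])

/-! ## Membership in `η.M` -/

theorem exists_of_mem_M {x : η.N A} (hx : x ∈ η.M A) {R : Type u} [CommRing R] [IsDomain R] [ValuationRing R]
    (hR : η.InV R) (g : A →+* R) :
    ∃ r : R, ∀ (L : Type u) [Field L] (ψ : R →+* L), ev η (ψ.comp g) x = η.eta L (ψ r) := by
  obtain ⟨r, hr⟩ := hx R hR g
  exact ⟨r, fun L _ ψ => by rw [← ev_Nmap, ← hr, ev_t]⟩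

theorem mem_M_of {x : η.N A}
    (h : ∀ (R : Type u) [CommRing R] [IsDomain R] [ValuationRing R], η.InV R → ∀ g : A →+* R,
      ∃ r : R, ∀ P : PrimeSpectrum R, ev η ((algebraMap R P.asIdeal.ResidueField).comp g) x =
        η.eta P.asIdeal.ResidueField (algebraMap R P.asIdeal.ResidueField r)) :
    x ∈ η.M A := fun R _ _ _ hR g => by
  obtain ⟨r, hr⟩ := h R hR g
  exact ⟨r, N_ext η fun P => by rw [ev_t, ev_Nmap, hr]⟩

theorem Nmap_mem_M {x : η.N A} (hx : x ∈ η.M A) (f : A →+* B) : η.Nmap f x ∈ η.M B :=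
  mem_M_of η fun R _ _ _ hR g => by
    obtain ⟨r, hr⟩ := exists_of_mem_M η hx hR (g.comp f)
    exact ⟨r, fun P => by rw [ev_Nmap, RingHom.comp_assoc, hr]⟩

/-- Values in closed fields lie in every valuation subring containing the image, compatibly with reduction. -/
theorem val_mem {x : η.N A} (hx : x ∈ η.M A) {L : Type u} [Field L] (hL : Closed η L) (φ : A →+* L)
    (V : ValuationSubring L) (hV : ∀ a, φ a ∈ V) :
    ∃ h : val η hL φ x ∈ V, ∀ (L' : Type u) [Field L'] (ψ : V →+* L'),
      ev η (ψ.comp (φ.codRestrict V hV)) x = η.eta L' (ψ ⟨val η hL φ x, h⟩) := by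
  obtain ⟨r, hr⟩ := exists_of_mem_M η hx ((inV_iff η L).mpr hL) (φ.codRestrict V hV)
  have h1 : ev η φ x = η.eta L r := hr L (algebraMap V L)
  have h2 : val η hL φ x = (r : L) := (η.eta L).injective (by rw [eta_val, h1])
  exact ⟨h2 ▸ r.2, fun L' _ ψ => by rw [hr]; congr 2; exact Subtype.ext h2.symm⟩

theorem exists_dominating {C : Type u} [CommRing C] {L : Type u} [Field L] (φ : C →+* L) (P : Ideal C) [P.IsPrime]
    (h : RingHom.ker φ ≤ P) :
    ∃ (V : ValuationSubring L) (hV : ∀ c, φ c ∈ V),
      RingHom.ker ((IsLocalRing.residue V).comp (φ.codRestrict V hV)) = P := by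
  let I : Ideal φ.range := P.map φ.rangeRestrict
  have hI : Ideal.comap φ.rangeRestrict I = P := by
    rw [Ideal.comap_map_of_surjective _ φ.rangeRestrict_surjective, sup_eq_left, ← RingHom.ker_eq_comap_bot,
      RingHom.ker_rangeRestrict]
    exact h
  haveI : I.IsPrime := Ideal.map_isPrime_of_surjective φ.rangeRestrict_surjective
    (by rw [RingHom.ker_rangeRestrict]; exact h)
  obtain ⟨V, hle, hloc⟩ := (LocalSubring.ofPrime φ.range I).exists_le_valuationSubring
  have hV : ∀ c, φ c ∈ V := fun c => hle (LocalSubring.le_ofPrime φ.range I ⟨c, rfl⟩)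
  refine ⟨V, hV, Ideal.ext fun c => ?_⟩
  rw [RingHom.mem_ker, RingHom.comp_apply, IsLocalRing.residue_eq_zero_iff, IsLocalRing.mem_maximalIdeal,
    mem_nonunits_iff]
  constructor
  · intro hu
    by_contra hc
    apply hu
    have hc' : φ.rangeRestrict c ∉ I := fun h' => hc (hI ▸ h')
    exact (IsLocalization.map_units (LocalSubring.ofPrime φ.range I).toSubring
      (⟨φ.rangeRestrict c, hc'⟩ : I.primeCompl)).map (Subring.inclusion hle)
  · intro hc hu
    have hu' := hloc.map_nonunit
      (algebraMap φ.range (LocalSubring.ofPrime φ.range I).toSubring (φ.rangeRestrict c)) hu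
    exact (IsLocalization.AtPrime.isUnit_to_map_iff (LocalSubring.ofPrime φ.range I).toSubring I _).mp hu'
      (Ideal.mem_map_of_mem _ hc)

/-- An element of `η.M A` vanishing at `q` vanishes at every specialisation of `q`. -/
theorem eq_zero_of_le {x : η.N A} (hx : x ∈ η.M A) {q p : PrimeSpectrum A} (hqp : q.asIdeal ≤ p.asIdeal)
    (h : x q = 0) : x p = 0 := by
  obtain ⟨V, hV, hker⟩ := exists_dominating (gpt η q) p.asIdeal (by rw [ker_gpt]; exact hqp)
  obtain ⟨hm, hψ⟩ := val_mem η hx (closed_obj η _) (gpt η q) V hV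
  rw [← ev_eq_zero_iff η _ p hker, hψ _ (IsLocalRing.residue V)]
  have : (⟨_, hm⟩ : V) = 0 := Subtype.ext (by simp [val_gpt, h])
  rw [this, map_zero, map_zero]

theorem ext_minimal {x y : η.N A} (hx : x ∈ η.M A) (hy : y ∈ η.M A)
    (h : ∀ p : PrimeSpectrum A, p.asIdeal ∈ minimalPrimes A → x p = y p) : x = y := by
  funext p
  obtain ⟨q, hq, hqp⟩ := Ideal.exists_minimalPrimes_le (I := (⊥ : Ideal A)) (J := p.asIdeal) bot_le
  rw [← sub_eq_zero, ← Pi.sub_apply]
  refine eq_zero_of_le η (sub_mem hx hy) (q := ⟨q, hq.1.1⟩) hqp ?_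
  rw [Pi.sub_apply, sub_eq_zero]
  exact h ⟨q, hq.1.1⟩ hq

theorem injOn_generic [IsDomain A] :
    Set.InjOn (fun x : η.N A => x ⟨⊥, Ideal.isPrime_bot⟩) (η.M A) := fun x hx y hy h =>
  ext_minimal η hx hy fun p hp => by
    obtain rfl : p = ⟨⊥, Ideal.isPrime_bot⟩ := PrimeSpectrum.ext
      (le_bot_iff.mp (hp.2 ⟨Ideal.isPrime_bot, le_rfl⟩ bot_le))
    exact h

/-- Values at closed fields are integral over the image. -/
theorem isIntegralElem_val {x : η.N A} (hx : x ∈ η.M A) {L : Type u} [Field L] (hL : Closed η L) (φ : A →+* L) :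
    φ.IsIntegralElem (val η hL φ x) := by
  have h : val η hL φ x ∈ ⨅ V : {V : ValuationSubring L // (φ.range : Set L) ⊆ V.toSubring}, V.1.toSubring := by
    rw [Subring.mem_iInf]
    intro V
    exact (val_mem η hx hL φ V.1 fun a => V.2 ⟨a, rfl⟩).1
  rw [iInf_valuationSubring_superset, Subalgebra.mem_toSubring, mem_integralClosure_iff, Subring.closure_eq] at h
  obtain ⟨P, hP, hP0⟩ := h
  obtain ⟨Q, hQ, -, hQm⟩ := Polynomial.lifts_and_degree_eq_and_monic
    ((Polynomial.lifts_iff_coeff_lifts _).mpr fun n => φ.rangeRestrict_surjective (P.coeff n)) hP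
  refine ⟨Q, hQm, ?_⟩
  rw [← hQ, Polynomial.eval₂_map] at hP0
  exact hP0

theorem eq_eta_of_domain {A : Type u} [CommRing A] (q : PrimeSpectrum A) (x : η.N A) (a : A)
    (h : val η (closed_obj η q.asIdeal.ResidueField) (gpt η q) x = gpt η q a) : x q = η.t A a q := by
  rw [← val_gpt η q x, h]
  rfl

end Groth.Agent.H23EtaPt
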