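import Groth.Agent.H23EtaPt.Universal
import Mathlib.FieldTheory.IsAlgClosed.AlgebraicClosure
import Mathlib.RingTheory.LocalRing.ResidueField.Instances

/-! # Membership criteria -/

set_option autoImplicit false

universe u

namespace Groth.Agent.H23EtaPt

open EtaPt

variable (η : FieldEndo.{u}) {A B : Type u} [CommRing A] [CommRing B]

theorem mem_M_of_pow {x : η.N A} {c : A} (q : ℕ) (n : ℕ)
    (hq : ∀ p : PrimeSpectrum A, ExpChar p.asIdeal.ResidueField q) (h : x ^ q ^ n = η.t A c) : x ∈ η.M A := by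
  refine mem_M_of η fun R _ _ _ hR g => ?_
  let K := FractionRing R
  have hK : Closed η K := hR
  let φ : A →+* K := (algebraMap R K).comp g
  have hpow : (val η hK φ x) ^ q ^ n = algebraMap R K (g c) := by
    rw [← map_pow, h, val_t]; rfl
  have hv : ((algebraMap R K).comp g).IsIntegralElem (val η hK φ x) := by
    refine ⟨Polynomial.X ^ q ^ n - Polynomial.C c, Polynomial.monic_X_pow_sub_C c (pow_ne_zero n ?_), ?_⟩
    · haveI := hq (pt φ)
      exact (expChar_pos (pt φ).asIdeal.ResidueField q).ne'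
    · rw [Polynomial.eval₂_sub, Polynomial.eval₂_X_pow, Polynomial.eval₂_C, hpow]
      exact sub_self _
  obtain ⟨r, hr⟩ := mem_of_isIntegralElem hv
  have hrc : r ^ q ^ n = g c := IsFractionRing.injective R K (by rw [map_pow, hr, hpow])
  refine ⟨r, fun P => ?_⟩
  let ψ : A →+* P.asIdeal.ResidueField := (algebraMap R P.asIdeal.ResidueField).comp g
  haveI := hq (pt ψ)
  haveI : ExpChar (η.obj P.asIdeal.ResidueField) q :=
    expChar_of_injective_ringHom ((η.eta _).comp (ptHom ψ)).injective q
  refine pow_inj q (n := n) ?_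
  rw [← map_pow, h, ev_t, ← map_pow, ← map_pow, hrc]
  rfl

/-- The generic residue field of a domain. -/
theorem exists_div_eq (q : PrimeSpectrum A) (z : q.asIdeal.ResidueField) :
    ∃ x y : A, y ∉ q.asIdeal ∧ z = algebraMap A _ x / algebraMap A _ y := by
  obtain ⟨⟨x, y⟩, h⟩ := IsLocalization.surj (nonZeroDivisors (A ⧸ q.asIdeal)) z
  obtain ⟨x', hx'⟩ := Ideal.Quotient.mk_surjective x
  obtain ⟨y', hy'⟩ := Ideal.Quotient.mk_surjective (y : A ⧸ q.asIdeal)
  have hy0 : y' ∉ q.asIdeal := fun hmem => by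
    have h0 : (y : A ⧸ q.asIdeal) = 0 := hy' ▸ Ideal.Quotient.eq_zero_iff_mem.mpr hmem
    exact nonZeroDivisors.ne_zero y.2 h0
  refine ⟨x', y', hy0, ?_⟩
  rw [eq_div_iff (fun h0 => hy0 (Ideal.algebraMap_residueField_eq_zero.mp h0))]
  rw [IsScalarTower.algebraMap_apply A (A ⧸ q.asIdeal) q.asIdeal.ResidueField x',
    IsScalarTower.algebraMap_apply A (A ⧸ q.asIdeal) q.asIdeal.ResidueField y', Ideal.Quotient.algebraMap_eq, hx', hy']
  exact h

theorem isFractionRing_residueField_bot [IsDomain A] : IsFractionRing A (⊥ : Ideal A).ResidueField := by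
  haveI : FaithfulSMul A (⊥ : Ideal A).ResidueField := (faithfulSMul_iff_algebraMap_injective _ _).mpr
    ((injective_iff_map_eq_zero _).mpr fun a ha => Ideal.algebraMap_residueField_eq_zero.mp ha)
  exact IsFractionRing.of_field A _ fun z => by
    obtain ⟨x, y, -, h⟩ := exists_div_eq ⟨⊥, Ideal.isPrime_bot⟩ z
    exact ⟨x, y, h⟩

/-- Points into algebraically closed fields extend along integral maps surjective on spectra. -/
theorem exists_point_of_integral (f : A →+* B) (hf : f.IsIntegral) (hs : Function.Surjective (PrimeSpectrum.comap f))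
    {L : Type u} [Field L] [IsAlgClosed L] (φ : A →+* L) : ∃ φ' : B →+* L, φ'.comp f = φ := by
  obtain ⟨q, hq⟩ := hs (pt φ)
  have hker : RingHom.ker φ = (PrimeSpectrum.comap f q).asIdeal := (congrArg PrimeSpectrum.asIdeal hq).symm
  let i := rmap f q
  letI := i.toAlgebra
  letI := (liftPt _ φ hker).toAlgebra
  have hint : ∀ b : B, IsIntegral (PrimeSpectrum.comap f q).asIdeal.ResidueField (algebraMap B q.asIdeal.ResidueField b) := fun b => by
    obtain ⟨P, hP, h0⟩ := hf b
    refine ⟨P.map (algebraMap A _), hP.map _, ?_⟩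
    rw [Polynomial.eval₂_map, show (algebraMap _ q.asIdeal.ResidueField).comp
      (algebraMap A (PrimeSpectrum.comap f q).asIdeal.ResidueField) = (algebraMap B q.asIdeal.ResidueField).comp f from
        RingHom.ext fun a => Ideal.ResidueField.map_algebraMap _ _ f rfl a,
      ← Polynomial.hom_eval₂, h0, map_zero]
  haveI : Algebra.IsAlgebraic (PrimeSpectrum.comap f q).asIdeal.ResidueField q.asIdeal.ResidueField := ⟨fun z => by
    obtain ⟨x, y, -, rfl⟩ := exists_div_eq q z
    rw [div_eq_mul_inv]
    exact ((hint x).mul (hint y).inv).isAlgebraic⟩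
  let j : q.asIdeal.ResidueField →ₐ[(PrimeSpectrum.comap f q).asIdeal.ResidueField] L := IsAlgClosed.lift
  refine ⟨j.toRingHom.comp (algebraMap B _), RingHom.ext fun a => ?_⟩
  show j (algebraMap B _ (f a)) = φ a
  rw [show algebraMap B q.asIdeal.ResidueField (f a) = algebraMap (PrimeSpectrum.comap f q).asIdeal.ResidueField
      q.asIdeal.ResidueField (algebraMap A _ a) from (Ideal.ResidueField.map_algebraMap _ _ f rfl a).symm, AlgHom.commutes]
  exact liftPt_algebraMap _ φ hker a

end Groth.Agent.H23EtaPt
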