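import Groth.Agent.H23EtaPt.Extra
import Groth.Agent.H17.UnivHomeoAlg
import Groth.Prelude.Def_HTop2

/-! # The identity endofunctor: subintegrality -/

set_option autoImplicit false

universe u

open AlgebraicGeometry CategoryTheory

namespace Groth.Agent.H23EtaPt

open EtaPt Groth.Agent.H17.UnivHomeoAlg

variable {A B : Type u} [CommRing A] [CommRing B]

theorem residueFieldsIso_iff [Algebra A B] :
    HTop.ResidueFieldsIso (Spec.map (CommRingCat.ofHom (algebraMap A B))) ↔ Rg A B := by
  rw [← rg_iff]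
  refine forall_congr' fun x => ?_
  rw [ConcreteCategory.isIso_iff_bijective]
  exact ⟨fun h => h.2, fun h => ⟨(((Spec.map (CommRingCat.ofHom (algebraMap A B))).residueFieldMap x).hom :
    _ →+* _).injective, h⟩⟩

theorem subintegral_of_Nmap_bijective (f : A →+* B) (hf : f.IsIntegral)
    (hker : ∀ a, f a = 0 → IsNilpotent a) (hN : Function.Bijective (FieldEndo.ident.{u}.Nmap f)) :
    FlatMor.IsUnivHomeo (Spec.map (CommRingCat.ofHom f)) ∧ HTop.ResidueFieldsIso (Spec.map (CommRingCat.ofHom f)) := by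
  letI := f.toAlgebra
  haveI : Algebra.IsIntegral A B := ⟨hf⟩
  refine ⟨(isUnivHomeo_iff (A := A) (B := B)).mpr ⟨inferInstance, fun L _ ψ ψ' h => point_unique _ f hN h,
    lf_of_integral hker⟩, (residueFieldsIso_iff (A := A) (B := B)).mpr fun L _ ψ F hF b => ?_⟩
  obtain ⟨φ', hφ'⟩ := exists_point_extension FieldEndo.ident.{u} f hN (L := F) Function.bijective_id
    ((ψ.comp f).codRestrict F hF)
  have : F.subtype.comp φ' = ψ := point_unique _ f hN (by rw [RingHom.comp_assoc, hφ']; rfl)
  rw [← this]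
  exact (φ' b).2

theorem Nmap_bijective_of_subintegral (f : A →+* B) (h₁ : FlatMor.IsUnivHomeo (Spec.map (CommRingCat.ofHom f)))
    (h₂ : HTop.ResidueFieldsIso (Spec.map (CommRingCat.ofHom f))) :
    f.IsIntegral ∧ Function.Bijective (FieldEndo.ident.{u}.Nmap f) := by
  letI := f.toAlgebra
  obtain ⟨hi, -, -⟩ := (isUnivHomeo_iff (A := A) (B := B)).mp h₁
  have hr : Rg A B := (residueFieldsIso_iff (A := A) (B := B)).mp h₂
  have hb : IsHomeomorph (Spec.map (CommRingCat.ofHom f)) := MorphismProperty.universally_le _ _ h₁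
  refine ⟨hi.1, (Nmap_bijective_iff _ f).mpr ⟨hb.bijective, fun q => ⟨map_injective _ _, fun z => ?_⟩⟩⟩
  have key : ∀ b, algebraMap B q.asIdeal.ResidueField b ∈ (rmap f q).fieldRange := fun b =>
    hr q.asIdeal.ResidueField (algebraMap B _) (rmap f q).fieldRange
      (fun a => RingHom.mem_fieldRange.mpr ⟨algebraMap A _ a, Ideal.ResidueField.map_algebraMap _ _ f rfl a⟩) b
  obtain ⟨x, y, -, rfl⟩ := exists_div_eq q z
  exact RingHom.mem_fieldRange.mp (div_mem (key x) (key y))

end Groth.Agent.H23EtaPt
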