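import Groth.Agent.H23EtaPt.Extra
import Mathlib.RingTheory.Localization.Integral
import Mathlib.RingTheory.Localization.Away.Basic
import Mathlib.RingTheory.Ideal.MinimalPrime.Localization

/-! # `η.N`, `η.M` of a localization -/

set_option autoImplicit false

universe u

namespace Groth.Agent.H23EtaPt

open EtaPt

variable (η : FieldEndo.{u}) {A : Type u} [CommRing A]

theorem exists_residue_hom {R L : Type u} [CommRing R] [Field L] (i : R →+* L) (P : PrimeSpectrum R)
    (h : RingHom.ker i ≤ P.asIdeal) :
    ∃ (V : ValuationSubring L) (hV : ∀ r, i r ∈ V) (hh : P.asIdeal.ResidueField →+* IsLocalRing.ResidueField V),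
      RingHom.ker ((IsLocalRing.residue V).comp (i.codRestrict V hV)) = P.asIdeal ∧
      hh.comp (algebraMap R _) = (IsLocalRing.residue V).comp (i.codRestrict V hV) := by
  obtain ⟨V, hV, hker⟩ := exists_dominating i P.asIdeal h
  exact ⟨V, hV, liftPt P _ hker, hker, RingHom.ext fun r => liftPt_algebraMap P _ hker r⟩

variable (f : A) {S : Type u} [CommRing S] [Algebra A S] [IsLocalization.Away f S]

theorem exists_ext0 (y : η.N S) :
    ∃ x : η.N A, η.Nmap (algebraMap A S) x = y ∧ ∀ (L : Type u) [Field L] (ψ : A →+* L), ψ f = 0 → ev η ψ x = 0 := by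
  classical
  have hu : ∀ p : PrimeSpectrum A, f ∉ p.asIdeal → IsUnit (algebraMap A p.asIdeal.ResidueField f) := fun p h =>
    isUnit_iff_ne_zero.mpr fun h0 => h (Ideal.algebraMap_residueField_eq_zero.mp h0)
  refine ⟨fun p => if h : f ∈ p.asIdeal then 0 else ev η (IsLocalization.Away.lift (S := S) f (hu p h)) y,
    N_ext η fun q => ?_, fun L _ ψ hψ => ?_⟩
  · set φ := (algebraMap S q.asIdeal.ResidueField).comp (algebraMap A S)
    have hf : f ∉ (pt φ).asIdeal := fun hm =>
      ((IsLocalization.Away.algebraMap_isUnit f (S := S)).map (algebraMap S q.asIdeal.ResidueField)).ne_zero hm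
    rw [ev_Nmap]
    show η.map (ptHom φ) (dite _ _ _) = _
    rw [dif_neg hf, map_ev]
    congr 2
    exact IsLocalization.ringHom_ext (Submonoid.powers f) (RingHom.ext fun a => by
      simp [IsLocalization.Away.lift_eq, ptHom_algebraMap, φ])
  · show η.map (ptHom ψ) (dite _ _ _) = 0
    rw [dif_pos (show f ∈ (pt ψ).asIdeal from hψ), map_zero]

include f in
theorem t_mul_eq_zero {x : η.N A} (h : η.Nmap (algebraMap A S) x = 0) : η.t A f * x = 0 := by
  refine N_ext η fun p => ?_
  rw [map_mul, ev_t, map_zero]
  by_cases hf : f ∈ p.asIdeal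
  · rw [Ideal.algebraMap_residueField_eq_zero.mpr hf, map_zero, zero_mul]
  · let l := IsLocalization.Away.lift (S := S) f
      (isUnit_iff_ne_zero.mpr fun h0 => hf (Ideal.algebraMap_residueField_eq_zero.mp h0) :
        IsUnit (algebraMap A p.asIdeal.ResidueField f))
    have : ev η (algebraMap A p.asIdeal.ResidueField) x = 0 := by
      rw [← show l.comp (algebraMap A S) = algebraMap A p.asIdeal.ResidueField from
        IsLocalization.Away.lift_comp f _, ← ev_Nmap, h, map_zero]
    rw [this, mul_zero]

include f in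
theorem minimalPrimes_away_finite (hA : (minimalPrimes A).Finite) : (minimalPrimes S).Finite := by
  have h := IsLocalization.minimalPrimes_map (Submonoid.powers f) S (⊥ : Ideal A)
  rw [Ideal.map_bot] at h
  refine (hA.preimage ?_).subset h.le
  intro I _ J _ hIJ
  rw [← IsLocalization.map_comap (Submonoid.powers f) S I, ← IsLocalization.map_comap (Submonoid.powers f) S J]
  exact congrArg _ hIJ

include f in
theorem exists_M_of_away (hA : (minimalPrimes A).Finite) {y : η.N S} (hy : y ∈ η.M S) :
    ∃ x ∈ η.M A, ∃ n : ℕ, y * η.t S (algebraMap A S f) ^ n = η.Nmap (algebraMap A S) x := by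
  letI := (η.q S).toAlgebra
  letI := ((η.q S).comp (algebraMap A S)).toAlgebra
  haveI : IsScalarTower A S (η.M S) := IsScalarTower.of_algebraMap_eq' rfl
  obtain ⟨⟨m, n, rfl⟩, P, hP, hP0⟩ := IsIntegral.exists_multiple_integral_of_isLocalization (Submonoid.powers f)
    (R := A) (Rₘ := S) (⟨y, hy⟩ : η.M S) (isIntegral_q η (minimalPrimes_away_finite f hA) _)
  obtain ⟨w, hw, -⟩ := exists_ext0 η f y
  let y' : η.M S := η.q S (algebraMap A S (f ^ n)) * ⟨y, hy⟩
  have hP0' : P.eval₂ ((η.q S).comp (algebraMap A S)) y' = 0 := by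
    simpa [y', Submonoid.smul_def, Algebra.smul_def, RingHom.algebraMap_toAlgebra] using hP0
  have hx : η.Nmap (algebraMap A S) (η.t A (f ^ (n + 1)) * w) = η.t S (algebraMap A S f) * (y' : η.N S) := by
    rw [map_mul, hw, η.Nmap_t_apply]
    show _ = η.t S (algebraMap A S f) * (η.t S (algebraMap A S (f ^ n)) * y)
    rw [← mul_assoc, ← map_mul, ← map_mul, ← pow_succ']
  refine ⟨η.t A (f ^ (n + 1)) * w, mem_M_of η fun R _ _ _ hR g => ?_, n + 1, ?_⟩
  · by_cases hgf : g f = 0
    · refine ⟨0, fun Q => ?_⟩
      rw [map_mul, ev_t, RingHom.comp_apply, map_pow, hgf, zero_pow n.succ_ne_zero, map_zero, map_zero, zero_mul]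
    let K := FractionRing R
    have hu : IsUnit (((algebraMap R K).comp g) f) :=
      isUnit_iff_ne_zero.mpr fun h => hgf (IsFractionRing.injective R K (h.trans (map_zero _).symm))
    let φ : S →+* K := IsLocalization.Away.lift f hu
    have hφ : φ.comp (algebraMap A S) = (algebraMap R K).comp g := IsLocalization.Away.lift_comp f hu
    obtain ⟨r, hr⟩ : ∃ r, algebraMap R K r = val η hR φ (y' : η.N S) := by
      refine mem_of_isIntegralElem (g := g) ⟨P, hP, ?_⟩
      have hc : ((val η hR φ).comp (η.M S).subtype).comp ((η.q S).comp (algebraMap A S)) = (algebraMap R K).comp g :=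
        RingHom.ext fun a => (val_t η hR φ _).trans (RingHom.congr_fun hφ a)
      rw [← hc, show val η hR φ (y' : η.N S) = ((val η hR φ).comp (η.M S).subtype) y' from rfl,
        ← Polynomial.hom_eval₂, hP0', map_zero]
    refine ⟨g f * r, fun Q => ?_⟩
    set ψ := (algebraMap R Q.asIdeal.ResidueField).comp g
    rw [map_mul (algebraMap R Q.asIdeal.ResidueField), map_mul (η.eta _)]
    by_cases hψ : ψ f = 0
    · rw [map_mul, ev_t, map_pow, show (algebraMap R Q.asIdeal.ResidueField) (g f) = 0 from hψ, hψ,
        zero_pow n.succ_ne_zero, map_zero, zero_mul, zero_mul]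
    let ψ' : S →+* Q.asIdeal.ResidueField := IsLocalization.Away.lift f (isUnit_iff_ne_zero.mpr hψ)
    have hψ' : ψ'.comp (algebraMap A S) = ψ := IsLocalization.Away.lift_comp f _
    rw [← hψ', ← ev_Nmap, hx, map_mul, ev_t, ← RingHom.comp_apply ψ', hψ']
    congr 1
    obtain ⟨V, hV, hh, hker, hhh⟩ := exists_residue_hom (algebraMap R K) Q
      (by rw [(RingHom.injective_iff_ker_eq_bot _).mp (IsFractionRing.injective R K)]; exact bot_le)
    let jV : R →+* V := (algebraMap R K).codRestrict V hV
    have huV : IsUnit ((jV.comp g) f) := by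
      rw [← IsLocalRing.residue_ne_zero_iff_isUnit, ← RingHom.comp_apply, ← RingHom.comp_assoc,
        ← hhh, RingHom.comp_assoc]
      exact (map_ne_zero hh).mpr hψ
    let φV : S →+* V := IsLocalization.Away.lift f huV
    have hVφ : ∀ c, φ c ∈ V := fun c => by
      rw [show φ = V.subtype.comp φV from IsLocalization.ringHom_ext (Submonoid.powers f) (RingHom.ext fun a => by
        simp [φ, φV, IsLocalization.Away.lift_eq, jV])]
      exact (φV c).2
    obtain ⟨hm, hres⟩ := val_mem η y'.2 hR φ V hVφ
    apply map_injective η hh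
    rw [map_ev, map_eta, ← RingHom.comp_apply hh, hhh]
    have he : hh.comp ψ' = (IsLocalRing.residue V).comp (φ.codRestrict V hVφ) :=
      IsLocalization.ringHom_ext (Submonoid.powers f) (RingHom.ext fun a => by
        simp only [RingHom.comp_apply]
        rw [show ψ' (algebraMap A S a) = algebraMap R _ (g a) from RingHom.congr_fun hψ' a,
          ← RingHom.comp_apply hh, hhh, RingHom.comp_apply]
        congr 1
        exact Subtype.ext (RingHom.congr_fun hφ a).symm)
    rw [he, hres _ (IsLocalRing.residue V)]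
    refine congrArg (η.eta _) ?_
    rw [show (⟨_, hm⟩ : V) = (algebraMap R K).codRestrict V hV r from Subtype.ext hr.symm]
    rfl
  · rw [hx]
    show _ = η.t S (algebraMap A S f) * (η.t S (algebraMap A S (f ^ n)) * y)
    rw [map_pow, map_pow, pow_succ', mul_comm y, mul_assoc]

end Groth.Agent.H23EtaPt
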