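import Groth.Agent.H23EtaPt.Basic
import Mathlib.RingTheory.Bezout
import Mathlib.RingTheory.PrincipalIdealDomain
import Mathlib.Algebra.GCDMonoid.IntegrallyClosed

/-! # Ring maps inducing bijections on `η.N` -/

set_option autoImplicit false

universe u

namespace Groth.Agent.H23EtaPt

open EtaPt

variable (η : FieldEndo.{u}) {A B : Type u} [CommRing A] [CommRing B]

theorem map_bijective_of_factor {K L : Type u} [Field K] [Field L] (i : K →+* L) (φ : L →+* η.obj K)
    (h : φ.comp i = η.eta K) : Function.Bijective (η.map i) := by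
  refine ⟨map_injective η i, fun y => ?_⟩
  obtain ⟨x, hx⟩ := (η.bijective_map_eta K).2 (η.map φ y)
  refine ⟨x, map_injective η φ ?_⟩
  rw [map_map, h, hx]

theorem exists_factor_of_map_bijective {K L : Type u} [Field K] [Field L] (i : K →+* L)
    (h : Function.Bijective (η.map i)) : ∃ φ : L →+* η.obj K, φ.comp i = η.eta K := by
  refine ⟨(RingEquiv.ofBijective (η.map i) h).symm.toRingHom.comp (η.eta L), RingHom.ext fun x => ?_⟩
  apply h.1
  show η.map i ((RingEquiv.ofBijective (η.map i) h).symm (η.eta L (i x))) = η.map i (η.eta K x)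
  rw [map_eta]
  exact (RingEquiv.ofBijective (η.map i) h).apply_symm_apply _

theorem hom_unique {K L E : Type u} [Field K] [Field L] [Field E] (i : K →+* L) (h : Function.Bijective (η.map i))
    {j j' : L →+* E} (hj : j.comp i = j'.comp i) : j = j' := by
  refine RingHom.ext fun z => (η.eta E).injective ?_
  obtain ⟨x, hx⟩ := h.2 (η.eta L z)
  rw [← map_eta, ← map_eta, ← hx, map_map, map_map, hj]

theorem exists_extension {K L E : Type u} [Field K] [Field L] [Field E] (i : K →+* L)
    (h : Function.Bijective (η.map i)) (hE : Closed η E) (j : K →+* E) : ∃ j' : L →+* E, j'.comp i = j := by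
  obtain ⟨φ, hφ⟩ := exists_factor_of_map_bijective η i h
  refine ⟨(RingEquiv.ofBijective (η.eta E) hE).symm.toRingHom.comp ((η.map j).comp φ), RingHom.ext fun x => ?_⟩
  apply (η.eta E).injective
  show η.eta E ((RingEquiv.ofBijective (η.eta E) hE).symm (η.map j (φ (i x)))) = η.eta E (j x)
  rw [show φ (i x) = η.eta K x from RingHom.congr_fun hφ x, map_eta]
  exact (RingEquiv.ofBijective (η.eta E) hE).apply_symm_apply _

/-- Residue field map at a prime of the target. -/
noncomputable abbrev rmap (f : A →+* B) (q : PrimeSpectrum B) :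
    (PrimeSpectrum.comap f q).asIdeal.ResidueField →+* q.asIdeal.ResidueField :=
  Ideal.ResidueField.map (PrimeSpectrum.comap f q).asIdeal q.asIdeal f rfl

theorem Nmap_bijective_iff (f : A →+* B) :
    Function.Bijective (η.Nmap f) ↔
      Function.Bijective (PrimeSpectrum.comap f) ∧ ∀ q, Function.Bijective (η.map (rmap f q)) := by
  classical
  constructor
  · intro h
    have hsurj : Function.Surjective (PrimeSpectrum.comap f) := by
      intro p
      by_contra hne
      push Not at hne
      have h0 : η.Nmap f (Pi.single p 1) = 0 := funext fun q => by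
        show η.map _ (Pi.single (M := fun p : PrimeSpectrum A => η.obj p.asIdeal.ResidueField) p 1 _) = 0
        rw [Pi.single_eq_of_ne (hne q), map_zero]
      have := congrFun (h.1 (h0.trans (map_zero (η.Nmap f)).symm)) p
      rw [Pi.single_eq_same] at this
      exact one_ne_zero this
    have hinj : Function.Injective (PrimeSpectrum.comap f) := by
      intro q q' hqq
      by_contra hne
      obtain ⟨x, hx⟩ := h.2 (Pi.single q 1)
      have h1 := congrFun hx q
      have h2 := congrFun hx q'
      rw [Pi.single_eq_same] at h1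
      rw [Pi.single_eq_of_ne (Ne.symm hne), Nmap_apply,
        ev_eq_zero_iff η _ (PrimeSpectrum.comap f q') (by rw [← RingHom.comap_ker, Ideal.ker_algebraMap_residueField]; rfl),
        ← hqq] at h2
      change η.map _ (x (PrimeSpectrum.comap f q)) = 1 at h1
      rw [h2, map_zero] at h1
      exact zero_ne_one h1
    refine ⟨⟨hinj, hsurj⟩, fun q => ⟨map_injective η _, fun y => ?_⟩⟩
    obtain ⟨x, hx⟩ := h.2 (Pi.single q y)
    refine ⟨x (PrimeSpectrum.comap f q), ?_⟩
    have := congrFun hx q
    rw [Pi.single_eq_same] at this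
    exact this
  · rintro ⟨hc, hm⟩
    refine ⟨fun x y hxy => funext fun p => ?_, fun y => ?_⟩
    · obtain ⟨q, rfl⟩ := hc.2 p
      exact map_injective η _ (congrFun hxy q)
    · choose z hz using fun q => (hm q).2 (y q)
      let e := Equiv.ofBijective _ hc
      refine ⟨fun p => cast (congrArg (fun r : PrimeSpectrum A => η.obj r.asIdeal.ResidueField) (e.apply_symm_apply p))
        (z (e.symm p)), funext fun q => ?_⟩
      show η.map (rmap f q) _ = y q
      rw [← hz q]
      congr 1
      have key : ∀ (q₁ q₂ : PrimeSpectrum B) (h : q₁ = q₂) (h' : PrimeSpectrum.comap f q₁ = PrimeSpectrum.comap f q₂),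
          cast (congrArg (fun r : PrimeSpectrum A => η.obj r.asIdeal.ResidueField) h') (z q₁) = z q₂ := by
        rintro q₁ q₂ rfl h'
        rfl
      exact key _ _ (e.symm_apply_apply q) (congrArg _ (e.symm_apply_apply q))

/-- The residue field map of a point, at a prime equal to its kernel. -/
noncomputable def liftPt {L : Type u} [Field L] (p : PrimeSpectrum A) (φ : A →+* L)
    (h : RingHom.ker φ = p.asIdeal) : p.asIdeal.ResidueField →+* L :=
  Ideal.ResidueField.lift p.asIdeal φ h.ge fun a ha =>
    isUnit_iff_ne_zero.mpr fun h0 => ha (h ▸ RingHom.mem_ker.mpr h0)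

theorem liftPt_algebraMap {L : Type u} [Field L] (p : PrimeSpectrum A) (φ : A →+* L)
    (h : RingHom.ker φ = p.asIdeal) (a : A) : liftPt p φ h (algebraMap A _ a) = φ a :=
  Ideal.ResidueField.lift_algebraMap _ φ h.ge _ a

/-- A point of the source extends to a point of the target. -/
theorem exists_point_extension (f : A →+* B) (hN : Function.Bijective (η.Nmap f)) {L : Type u} [Field L]
    (hL : Closed η L) (φ : A →+* L) : ∃ φ' : B →+* L, φ'.comp f = φ := by
  obtain ⟨hc, hm⟩ := (Nmap_bijective_iff η f).mp hN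
  obtain ⟨q, hq⟩ := hc.2 (pt φ)
  have hker : RingHom.ker φ = (PrimeSpectrum.comap f q).asIdeal := (congrArg PrimeSpectrum.asIdeal hq).symm
  obtain ⟨j', hj'⟩ := exists_extension η (rmap f q) (hm q) hL
    (liftPt _ φ hker)
  refine ⟨j'.comp (algebraMap B _), RingHom.ext fun a => ?_⟩
  have h := RingHom.congr_fun hj' (algebraMap A _ a)
  simp only [RingHom.comp_apply, liftPt_algebraMap] at h ⊢
  rw [← h]
  exact congrArg j' (Ideal.ResidueField.map_algebraMap _ _ f rfl a).symm

theorem point_unique (f : A →+* B) (hN : Function.Bijective (η.Nmap f)) {L : Type u} [Field L]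
    {φ₁ φ₂ : B →+* L} (h : φ₁.comp f = φ₂.comp f) : φ₁ = φ₂ := by
  obtain ⟨hc, hm⟩ := (Nmap_bijective_iff η f).mp hN
  have hq : pt φ₁ = pt φ₂ := hc.1 (PrimeSpectrum.ext (by
    show (RingHom.ker φ₁).comap f = (RingHom.ker φ₂).comap f
    rw [RingHom.comap_ker, RingHom.comap_ker, h]))
  have hk : RingHom.ker φ₂ = (pt φ₁).asIdeal := (congrArg PrimeSpectrum.asIdeal hq).symm
  have := hom_unique η (rmap f (pt φ₁)) (hm _) (j := ptHom φ₁)
    (j' := liftPt _ φ₂ hk)
    (Ideal.ResidueField.ringHom_ext (RingHom.ext fun a => by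
      show ptHom φ₁ (rmap f (pt φ₁) (algebraMap A _ a)) = liftPt _ φ₂ hk (rmap f (pt φ₁) (algebraMap A _ a))
      rw [show rmap f (pt φ₁) (algebraMap A _ a) = algebraMap B _ (f a) from Ideal.ResidueField.map_algebraMap _ _ f rfl a,
        ptHom_algebraMap, liftPt_algebraMap]
      exact RingHom.congr_fun h a))
  refine RingHom.ext fun b => ?_
  have h' := RingHom.congr_fun this (algebraMap B _ b)
  rwa [ptHom_algebraMap, liftPt_algebraMap] at h'

theorem mem_of_isIntegralElem {R : Type u} [CommRing R] [IsDomain R] [ValuationRing R] {K : Type u} [Field K]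
    [Algebra R K] [IsFractionRing R K] {g : A →+* R} {z : K} (hz : ((algebraMap R K).comp g).IsIntegralElem z) :
    ∃ r : R, algebraMap R K r = z := by
  obtain ⟨P, hP, h0⟩ := hz
  classical
  haveI : GCDMonoid R := IsBezout.toGCDDomain R
  exact IsIntegrallyClosed.isIntegral_iff.mp ⟨P.map g, hP.map g, by rw [Polynomial.eval₂_map]; exact h0⟩

/-- A map inducing a bijection on `η.N` lifts test maps to closed valuation rings, if integral. -/
theorem exists_lift_valuationRing (f : A →+* B) (hf : f.IsIntegral) (hN : Function.Bijective (η.Nmap f))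
    {R : Type u} [CommRing R] [IsDomain R] [ValuationRing R] (hR : η.InV R) (g : A →+* R) :
    ∃ g' : B →+* R, g'.comp f = g := by
  obtain ⟨φ, hφ⟩ := exists_point_extension η f hN (L := FractionRing R) hR ((algebraMap R _).comp g)
  have hmem : ∀ b, φ b ∈ (algebraMap R (FractionRing R)).range := fun b => by
    obtain ⟨P, hP, h0⟩ := hf b
    refine mem_of_isIntegralElem (g := g) ⟨P, hP, ?_⟩
    rw [← hφ, ← Polynomial.hom_eval₂, h0, map_zero]
  choose g' hg' using hmem
  refine ⟨⟨⟨⟨g', ?_⟩, ?_⟩, ?_, ?_⟩, RingHom.ext fun a => IsFractionRing.injective R (FractionRing R) ?_⟩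
  all_goals first
    | exact IsFractionRing.injective R (FractionRing R) (by simp [hg'])
    | (intro b c; exact IsFractionRing.injective R (FractionRing R) (by simp [hg']))
    | skip
  show algebraMap R _ (g' (f a)) = _
  rw [hg']
  exact RingHom.congr_fun hφ a

theorem bijOn_M (f : A →+* B) (hf : f.IsIntegral) (hN : Function.Bijective (η.Nmap f)) :
    Set.BijOn (η.Nmap f) (η.M A) (η.M B) := by
  refine ⟨fun x hx => Nmap_mem_M η hx f, hN.1.injOn, fun y hy => ?_⟩
  obtain ⟨x, rfl⟩ := hN.2 y
  refine ⟨x, mem_M_of η fun R _ _ _ hR g => ?_, rfl⟩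
  obtain ⟨g', rfl⟩ := exists_lift_valuationRing η f hf hN hR g
  obtain ⟨r, hr⟩ := exists_of_mem_M η hy hR g'
  exact ⟨r, fun P => by rw [← RingHom.comp_assoc, ← ev_Nmap, hr]⟩

end Groth.Agent.H23EtaPt
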