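import Groth.Agent.H23EtaPt.Loc

/-! # The relative construction and localization -/

set_option autoImplicit false

universe u

namespace Groth.Agent.H23EtaPt

open EtaPt

variable (η : FieldEndo.{u}) {A B : Type u} [CommRing A] [CommRing B] (φ : A →+* B) (f : A)

theorem rel_map_away {b : B} (hb : b ∈ η.rel φ) :
    algebraMap B (Localization.Away (φ f)) b ∈ η.rel (Localization.awayMap φ f) := by
  obtain ⟨x, hx, h⟩ := (mem_rel η).mp hb
  refine (mem_rel η).mpr ⟨η.Nmap (algebraMap A (Localization.Away f)) x, Nmap_mem_M η hx _, ?_⟩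
  rw [Nmap_Nmap, Localization.awayMap, IsLocalization.Away.map, IsLocalization.map_comp, ← Nmap_Nmap, h,
    η.Nmap_t_apply]

theorem exists_rel_of_away (hA : (minimalPrimes A).Finite) {y : Localization.Away (φ f)}
    (hy : y ∈ η.rel (Localization.awayMap φ f)) :
    ∃ b ∈ η.rel φ, ∃ n : ℕ, y * algebraMap B (Localization.Away (φ f)) (φ f) ^ n = algebraMap B _ b := by
  obtain ⟨x', hx', h⟩ := (mem_rel η).mp hy
  obtain ⟨x, hx, n, hn⟩ := exists_M_of_away η f hA hx'
  obtain ⟨m, b₀, hb₀⟩ := IsLocalization.Away.surj (φ f) y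
  let jB := algebraMap B (Localization.Away (φ f))
  have hcomp : (Localization.awayMap φ f).comp (algebraMap A (Localization.Away f)) = jB.comp φ :=
    IsLocalization.map_comp _
  have hf : Localization.awayMap φ f (algebraMap A _ f) = jB (φ f) := RingHom.congr_fun hcomp f
  have h1 : η.Nmap jB (η.Nmap φ (η.t A f ^ m * x)) = η.t _ (y * jB (φ f) ^ (m + n)) := by
    rw [Nmap_Nmap, ← hcomp, ← Nmap_Nmap, map_mul, map_mul, map_pow, map_pow, η.Nmap_t_apply, η.Nmap_t_apply, hf,
      ← hn, map_mul, map_pow, η.Nmap_t_apply, hf, h, map_mul, map_pow, pow_add]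
    ring
  have hb : y * jB (φ f) ^ (m + n) = jB (b₀ * φ f ^ n) := by
    rw [map_mul, map_pow, pow_add, ← mul_assoc]
    exact congrArg (· * _) hb₀
  have h0 : η.Nmap jB (η.t B (b₀ * φ f ^ n) - η.Nmap φ (η.t A f ^ m * x)) = 0 := by
    rw [map_sub, h1, η.Nmap_t_apply, ← hb, sub_self]
  have h2 := t_mul_eq_zero η (φ f) h0
  rw [mul_sub, sub_eq_zero, ← map_mul] at h2
  refine ⟨φ f * (b₀ * φ f ^ n), (mem_rel η).mpr ⟨η.t A f * (η.t A f ^ m * x),
    mul_mem (η.t_mem_M A f) (mul_mem (pow_mem (η.t_mem_M A f) m) hx), ?_⟩, m + n + 1, ?_⟩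
  · rw [map_mul, η.Nmap_t_apply, h2]
  · rw [pow_succ, ← mul_assoc, hb, ← map_mul, mul_comm]

end Groth.Agent.H23EtaPt
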