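import Groth.Agent.H23EtaPt.Nbij

/-! # The universal property of `η.q` and the relative construction -/

set_option autoImplicit false

universe u

namespace Groth.Agent.H23EtaPt

open EtaPt

variable (η : FieldEndo.{u}) {A B C : Type u} [CommRing A] [CommRing B] [CommRing C]

theorem q_apply (a : A) : ((η.q A a : η.M A) : η.N A) = η.t A a := rfl

/-- Evaluation of `η.M A` at a prime. -/
noncomputable def evM (p : PrimeSpectrum A) : η.M A →+* η.obj p.asIdeal.ResidueField :=
  (Pi.evalRingHom (fun p : PrimeSpectrum A => η.obj p.asIdeal.ResidueField) p).comp (η.M A).subtype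

theorem evM_apply (p : PrimeSpectrum A) (x : η.M A) : evM η p x = (x : η.N A) p := rfl

theorem evM_comp_q (p : PrimeSpectrum A) : (evM η p).comp (η.q A) = gpt η p := rfl

theorem comap_ker_evM (p : PrimeSpectrum A) : (RingHom.ker (evM η p)).comap (η.q A) = p.asIdeal := by
  rw [RingHom.comap_ker, evM_comp_q, ker_gpt]

theorem prime_eq_ker_evM_of_le {q : PrimeSpectrum A} {Q : PrimeSpectrum (η.M A)}
    (hqQ : RingHom.ker (evM η q) ≤ Q.asIdeal) :
    Q.asIdeal = RingHom.ker (evM η (PrimeSpectrum.comap (η.q A) Q)) := by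
  obtain ⟨V, hV, hker⟩ := exists_dominating (evM η q) Q.asIdeal hqQ
  ext x
  obtain ⟨hm, hψ⟩ := val_mem η x.2 (closed_obj η _) (gpt η q) V (fun a => hV (η.q A a))
  have hg : (IsLocalRing.residue V).comp ((gpt η q).codRestrict V fun a => hV (η.q A a)) =
      ((IsLocalRing.residue V).comp ((evM η q).codRestrict V hV)).comp (η.q A) := rfl
  have h1 : RingHom.ker ((IsLocalRing.residue V).comp ((gpt η q).codRestrict V fun a => hV (η.q A a))) =
      (PrimeSpectrum.comap (η.q A) Q).asIdeal := by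
    rw [hg, ← RingHom.comap_ker, hker]; rfl
  have h2 : (⟨_, hm⟩ : V) = (evM η q).codRestrict V hV x := Subtype.ext (val_gpt η q x)
  rw [RingHom.mem_ker, evM_apply, ← ev_eq_zero_iff η _ _ h1, hψ _ (IsLocalRing.residue V), map_eq_zero, h2,
    ← RingHom.comp_apply, ← RingHom.mem_ker, hker]

variable (hA : (minimalPrimes A).Finite)

include hA in
theorem prime_eq_ker_evM (Q : PrimeSpectrum (η.M A)) :
    Q.asIdeal = RingHom.ker (evM η (PrimeSpectrum.comap (η.q A) Q)) := by
  have hle : (hA.toFinset.attach.inf fun q =>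
      RingHom.ker (evM η ⟨q.1, ((hA.mem_toFinset.mp q.2).1.1)⟩)) ≤ Q.asIdeal := by
    intro x hx
    rw [Submodule.mem_finsetInf] at hx
    have : x = 0 := Subtype.ext (ext_minimal η x.2 (zero_mem _) fun p hp => by
      have := hx ⟨p.asIdeal, hA.mem_toFinset.mpr hp⟩ (Finset.mem_attach _ _)
      exact this)
    rw [this]
    exact zero_mem _
  obtain ⟨q, -, hq⟩ := (Q.isPrime.inf_le').mp hle
  exact prime_eq_ker_evM_of_le η hq

include hA in
theorem comap_q_bijective : Function.Bijective (PrimeSpectrum.comap (η.q A)) :=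
  ⟨fun Q Q' h => PrimeSpectrum.ext (by rw [prime_eq_ker_evM η hA Q, prime_eq_ker_evM η hA Q', h]),
    fun p => ⟨pt (evM η p), PrimeSpectrum.ext (comap_ker_evM η p)⟩⟩

/-- If a point of the target of `f` lands in `η.obj` over each prime, the map is bijective on `η.N`. -/
theorem Nmap_bijective_of_points (f : A →+* B) (hc : Function.Bijective (PrimeSpectrum.comap f))
    (φ : ∀ q : PrimeSpectrum B, B →+* η.obj (PrimeSpectrum.comap f q).asIdeal.ResidueField)
    (hker : ∀ q, RingHom.ker (φ q) = q.asIdeal) (hφ : ∀ q, (φ q).comp f = gpt η (PrimeSpectrum.comap f q)) :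
    (∀ q : PrimeSpectrum B, ∃ ψ : q.asIdeal.ResidueField →+* η.obj (PrimeSpectrum.comap f q).asIdeal.ResidueField,
      ψ.comp (rmap f q) = η.eta (PrimeSpectrum.comap f q).asIdeal.ResidueField) ∧
    Function.Bijective (η.Nmap f) := by
  have h : ∀ q : PrimeSpectrum B, ∃ ψ : q.asIdeal.ResidueField →+* η.obj (PrimeSpectrum.comap f q).asIdeal.ResidueField,
      ψ.comp (rmap f q) = η.eta (PrimeSpectrum.comap f q).asIdeal.ResidueField := fun q => by
    refine ⟨liftPt q (φ q) (hker q), Ideal.ResidueField.ringHom_ext (RingHom.ext fun a => ?_)⟩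
    show liftPt q (φ q) (hker q) (rmap f q (algebraMap A _ a)) = gpt η _ a
    rw [show rmap f q (algebraMap A _ a) = algebraMap B _ (f a) from Ideal.ResidueField.map_algebraMap _ _ f rfl a,
      liftPt_algebraMap]
    exact RingHom.congr_fun (hφ q) a
  refine ⟨h, (Nmap_bijective_iff η f).mpr ⟨hc, fun q => ?_⟩⟩
  obtain ⟨ψ, hψ⟩ := h q
  exact map_bijective_of_factor η _ ψ hψ

include hA in
theorem q_points :
    (∀ Q : PrimeSpectrum (η.M A), ∃ ψ : Q.asIdeal.ResidueField →+* η.obj (PrimeSpectrum.comap (η.q A) Q).asIdeal.ResidueField,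
      ψ.comp (rmap (η.q A) Q) = η.eta (PrimeSpectrum.comap (η.q A) Q).asIdeal.ResidueField) ∧
    Function.Bijective (η.Nmap (η.q A)) :=
  Nmap_bijective_of_points η (η.q A) (comap_q_bijective η hA) (fun Q => evM η _)
    (fun Q => (prime_eq_ker_evM η hA Q).symm) fun Q => evM_comp_q η _

include hA in
theorem isIntegral_q : (η.q A).IsIntegral := by
  intro x
  classical
  have h := fun q : PrimeSpectrum A => isIntegralElem_val η x.2 (closed_obj η q.asIdeal.ResidueField) (gpt η q)
  choose P hP hP0 using h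
  let S := hA.toFinset.attach
  refine ⟨∏ q ∈ S, P ⟨q.1, (hA.mem_toFinset.mp q.2).1.1⟩, Polynomial.monic_prod_of_monic _ _ fun q _ => hP _, ?_⟩
  refine Subtype.ext (ext_minimal η (Subtype.mem _) (zero_mem _) fun p hp => ?_)
  show evM η p _ = 0
  rw [Polynomial.hom_eval₂, evM_comp_q, Polynomial.eval₂_finsetProd]
  refine Finset.prod_eq_zero (Finset.mem_attach _ ⟨p.asIdeal, hA.mem_toFinset.mpr hp⟩) ?_
  rw [evM_apply, ← val_gpt η p x]
  exact hP0 p

include hA in
theorem Nmap_q_eq_t (x : η.M A) : η.Nmap (η.q A) (x : η.N A) = η.t (η.M A) x := by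
  refine N_ext η fun Q => ?_
  have hk : RingHom.ker (evM η (PrimeSpectrum.comap (η.q A) Q)) = Q.asIdeal := (prime_eq_ker_evM η hA Q).symm
  set E := evM η (PrimeSpectrum.comap (η.q A) Q)
  have h : ev η E (η.Nmap (η.q A) (x : η.N A)) = ev η E (η.t (η.M A) x) := by
    rw [ev_Nmap, ev_t, evM_comp_q, gpt, ← map_ev, ev_algebraMap, eta_obj_eq]
    rfl
  rw [ev_algebraMap, ev_algebraMap]
  exact (ev_eq_iff η E Q hk _ _).mp h

include hA in
theorem bijective_q_M : Function.Bijective (η.q (η.M A)) := by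
  constructor
  · intro x y h
    have h' : η.t (η.M A) x = η.t (η.M A) y := congrArg Subtype.val h
    rw [← Nmap_q_eq_t η hA, ← Nmap_q_eq_t η hA] at h'
    exact Subtype.ext ((q_points η hA).2.1 h')
  · intro y
    obtain ⟨x, hx, hxy⟩ := (bijOn_M η (η.q A) (isIntegral_q η hA) (q_points η hA).2).surjOn y.2
    exact ⟨⟨x, hx⟩, Subtype.ext (((Nmap_q_eq_t η hA ⟨x, hx⟩).symm.trans hxy))⟩

theorem exists_hom_lift {P Q R : Type u} [CommRing P] [CommRing Q] [CommRing R] (ι : Q →+* R)
    (hι : Function.Injective ι) (φ : P →+* R) (h : ∀ b, ∃ x, ι x = φ b) : ∃ g : P →+* Q, ι.comp g = φ := by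
  choose g hg using h
  refine ⟨{ toFun := g, map_one' := hι ?_, map_mul' := fun b c => hι ?_, map_zero' := hι ?_,
            map_add' := fun b c => hι ?_ }, RingHom.ext hg⟩
  · rw [hg, map_one, map_one]
  · rw [hg, map_mul, map_mul, hg, hg]
  · rw [hg, map_zero, map_zero]
  · rw [hg, map_add, map_add, hg, hg]

/-- The comparison with `η.M A` of an integral map bijective on `η.N`. -/
theorem exists_descent (g : A →+* B) (hg : g.IsIntegral) (hN : Function.Bijective (η.Nmap g)) :
    ∃ g' : B →+* η.M A, g'.comp g = η.q A ∧ ∀ b, η.Nmap g (g' b : η.N A) = η.t B b := by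
  have hbij := bijOn_M η g hg hN
  let ι : η.M A →+* η.N B := (η.Nmap g).comp (η.M A).subtype
  have hι : Function.Injective ι := hN.1.comp Subtype.val_injective
  obtain ⟨g', hg'⟩ := exists_hom_lift ι hι (η.t B) fun b => by
    obtain ⟨x, hx, h⟩ := hbij.surjOn (η.t_mem_M B b)
    exact ⟨⟨x, hx⟩, h⟩
  refine ⟨g', RingHom.ext fun a => hι ?_, fun b => RingHom.congr_fun hg' b⟩
  exact (RingHom.congr_fun hg' (g a)).trans (η.Nmap_t_apply g a).symm

theorem descent_unique (g : A →+* B) (hN : Function.Bijective (η.Nmap g)) {h₁ h₂ : B →+* η.M A}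
    (h : h₁.comp g = h₂.comp g) : h₁ = h₂ :=
  RingHom.ext fun b => Subtype.ext <| funext fun p => RingHom.congr_fun
    (point_unique η g hN (φ₁ := (evM η p).comp h₁) (φ₂ := (evM η p).comp h₂) (by
      rw [RingHom.comp_assoc, h, RingHom.comp_assoc])) b

/-! ## The relative construction -/

theorem Nmap_injective_of_surjective (f : A →+* B) (hs : Function.Surjective (PrimeSpectrum.comap f)) :
    Function.Injective (η.Nmap f) := fun x y h => funext fun p => by
  obtain ⟨q, rfl⟩ := hs p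
  exact map_injective η _ (congrFun h q)

theorem mem_rel {f : A →+* B} {b : B} : b ∈ η.rel f ↔ ∃ x ∈ η.M A, η.Nmap f x = η.t B b := Iff.rfl

variable (f : A →+* B) (hs : Function.Surjective (PrimeSpectrum.comap f))

include hs in
/-- The projection `η.rel f → η.M A`. -/
theorem exists_relProj : ∃ π : η.rel f →+* η.M A, π.comp (η.qRel f) = η.q A ∧
    ∀ b : η.rel f, η.Nmap f (π b : η.N A) = η.t B (b : B) := by
  let ι : η.M A →+* η.N B := (η.Nmap f).comp (η.M A).subtype
  have hι : Function.Injective ι := (Nmap_injective_of_surjective η f hs).comp Subtype.val_injective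
  obtain ⟨π, hπ⟩ := exists_hom_lift ι hι ((η.t B).comp (η.rel f).subtype) fun b => by
    obtain ⟨x, hx, h⟩ := (mem_rel η).mp b.2
    exact ⟨⟨x, hx⟩, h⟩
  refine ⟨π, RingHom.ext fun a => hι ?_, fun b => RingHom.congr_fun hπ b⟩
  exact (RingHom.congr_fun hπ (η.qRel f a)).trans (η.Nmap_t_apply f a).symm

theorem isNilpotent_of_t_eq_zero {b : B} (h : η.t B b = 0) : IsNilpotent b :=
  nilpotent_iff_mem_prime.mpr fun J hJ => by
    have h0 : η.eta _ (algebraMap B J.ResidueField b) = 0 := congrFun h ⟨J, hJ⟩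
    rw [map_eq_zero] at h0
    exact Ideal.algebraMap_residueField_eq_zero.mp h0

include hs in
theorem ker_relProj_le {π : η.rel f →+* η.M A} (hπ : ∀ b : η.rel f, η.Nmap f (π b : η.N A) = η.t B (b : B)) :
    RingHom.ker π ≤ nilradical (η.rel f) := fun b hb => by
  obtain ⟨n, hn⟩ := isNilpotent_of_t_eq_zero η (b := (b : B)) (by
    rw [← hπ, RingHom.mem_ker.mp hb, Subring.coe_zero, map_zero])
  exact ⟨n, Subtype.ext (by rw [SubmonoidClass.coe_pow, hn]; rfl)⟩

include hA hs in
theorem isIntegral_qRel : (η.qRel f).IsIntegral := by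
  obtain ⟨π, hπq, hπ⟩ := exists_relProj η f hs
  intro b
  obtain ⟨P, hP, hP0⟩ := isIntegral_q η hA (π b)
  have h : Polynomial.eval₂ (η.qRel f) b P ∈ RingHom.ker π := by
    rw [RingHom.mem_ker, Polynomial.hom_eval₂, hπq, hP0]
  obtain ⟨n, hn⟩ := ker_relProj_le η f hs hπ h
  exact ⟨P ^ n, hP.pow n, by rw [Polynomial.eval₂_pow, hn]⟩

include hA hs in
theorem prime_rel_eq {π : η.rel f →+* η.M A} (hπq : π.comp (η.qRel f) = η.q A)
    (hπ : ∀ b : η.rel f, η.Nmap f (π b : η.N A) = η.t B (b : B)) (Q : PrimeSpectrum (η.rel f)) :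
    Q.asIdeal = RingHom.ker ((evM η (PrimeSpectrum.comap (η.qRel f) Q)).comp π) := by
  letI := π.toAlgebra
  haveI : Algebra.IsIntegral (η.rel f) (η.M A) := ⟨fun x => RingHom.IsIntegral.tower_top (η.qRel f) π (by
    rw [hπq]; exact isIntegral_q η hA) x⟩
  obtain ⟨P, -, hPp, hP⟩ := Ideal.exists_ideal_over_prime_of_isIntegral Q.asIdeal (⊥ : Ideal (η.M A)) (by
    rw [← RingHom.ker_eq_comap_bot]
    exact (ker_relProj_le η f hs hπ).trans (nilradical_le_prime Q.asIdeal))
  have hPQ : P.comap π = Q.asIdeal := hP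
  have h1 : PrimeSpectrum.comap (η.q A) ⟨P, hPp⟩ = PrimeSpectrum.comap (η.qRel f) Q := PrimeSpectrum.ext (by
    show P.comap (η.q A) = Q.asIdeal.comap (η.qRel f)
    rw [← hPQ, Ideal.comap_comap, hπq])
  rw [← RingHom.comap_ker, ← h1, ← prime_eq_ker_evM η hA ⟨P, hPp⟩, hPQ]

include hA hs in
theorem comap_qRel_bijective : Function.Bijective (PrimeSpectrum.comap (η.qRel f)) := by
  obtain ⟨π, hπq, hπ⟩ := exists_relProj η f hs
  refine ⟨fun Q Q' h => PrimeSpectrum.ext (by
    rw [prime_rel_eq η hA f hs hπq hπ Q, prime_rel_eq η hA f hs hπq hπ Q', h]), fun p => ?_⟩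
  obtain ⟨Q, rfl⟩ := hs p
  exact ⟨PrimeSpectrum.comap (η.rel f).subtype Q, rfl⟩

include hA hs in
theorem qRel_points :
    (∀ Q : PrimeSpectrum (η.rel f), ∃ ψ : Q.asIdeal.ResidueField →+* η.obj (PrimeSpectrum.comap (η.qRel f) Q).asIdeal.ResidueField,
      ψ.comp (rmap (η.qRel f) Q) = η.eta (PrimeSpectrum.comap (η.qRel f) Q).asIdeal.ResidueField) ∧
    Function.Bijective (η.Nmap (η.qRel f)) := by
  obtain ⟨π, hπq, hπ⟩ := exists_relProj η f hs
  exact Nmap_bijective_of_points η (η.qRel f) (comap_qRel_bijective η hA f hs) (fun Q => (evM η _).comp π)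
    (fun Q => (prime_rel_eq η hA f hs hπq hπ Q).symm) fun Q => by rw [RingHom.comp_assoc, hπq, evM_comp_q]

theorem range_le_rel (f₁ : A →+* B) (f₂ : B →+* C) (h₁ : f₁.IsIntegral) (hN : Function.Bijective (η.Nmap f₁)) :
    f₂.range ≤ η.rel (f₂.comp f₁) := by
  rintro _ ⟨b, rfl⟩
  obtain ⟨g', -, hg'⟩ := exists_descent η f₁ h₁ hN
  exact (mem_rel η).mpr ⟨g' b, (g' b).2, by rw [← Nmap_Nmap, hg', η.Nmap_t_apply]⟩

end Groth.Agent.H23EtaPt
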