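import Groth.Agent.H23EtaPt.Extra
import Mathlib.FieldTheory.Perfect

/-! # `η.M` of a valuation ring -/

set_option autoImplicit false

universe u

namespace Groth.Agent.H23EtaPt

open EtaPt

variable (η : FieldEndo.{u}) {R : Type u} [CommRing R] [IsDomain R] [ValuationRing R]

theorem exists_eq_of_isIntegralElem {K : Type u} [Field K] [Algebra R K] [IsFractionRing R K] {L : Type u} [Field L]
    (i : K →+* L) {z : K} (hz : (i.comp (algebraMap R K)).IsIntegralElem (i z)) : ∃ r : R, algebraMap R K r = z := by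
  obtain ⟨P, hP, h0⟩ := hz
  refine mem_of_isIntegralElem (g := RingHom.id R) ⟨P, hP, i.injective ?_⟩
  rw [RingHom.comp_id, Polynomial.hom_eval₂, map_zero]
  exact h0

theorem exists_mem_M_of_integral
    (hη : η.InV R ∨ ∀ (k : Type u) [Field k], ringChar k = ringChar R →
      Function.Bijective (η.eta k) → PerfectField k)
    {y : η.obj (⊥ : Ideal R).ResidueField}
    (hy : ((η.eta (⊥ : Ideal R).ResidueField).comp (algebraMap R (⊥ : Ideal R).ResidueField)).IsIntegralElem y) :
    ∃ x ∈ η.M R, x ⟨⊥, Ideal.isPrime_bot⟩ = y := by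
  haveI := isFractionRing_residueField_bot (A := R)
  by_cases hz : ∃ z, η.eta _ z = y
  · obtain ⟨z, rfl⟩ := hz
    obtain ⟨r, rfl⟩ := exists_eq_of_isIntegralElem _ hy
    exact ⟨η.t R r, η.t_mem_M R r, rfl⟩
  obtain ⟨n, z, hn⟩ := η.exists_pow_mem_range_eta _ y
  have hperf := hη.resolve_left fun h => hz (((inV_iff η _).mp h).2 y)
  set p := ringExpChar (⊥ : Ideal R).ResidueField with hp_def
  have hp1 : p ≠ 1 := fun h => hz ⟨z, by rwa [h, one_pow, pow_one] at hn⟩
  obtain ⟨hp, hchar⟩ : p.Prime ∧ CharP (⊥ : Ideal R).ResidueField p := by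
    have hE : ExpChar (⊥ : Ideal R).ResidueField p := inferInstance
    clear_value p
    cases hE with
    | zero => exact absurd rfl hp1
    | prime hq => exact ⟨hq, inferInstance⟩
  haveI : Fact p.Prime := ⟨hp⟩
  haveI : CharP R p := (algebraMap R (⊥ : Ideal R).ResidueField).charP (IsFractionRing.injective R (⊥ : Ideal R).ResidueField) p
  haveI : ∀ P : PrimeSpectrum R, CharP P.asIdeal.ResidueField p := fun P => by
    have h0 : (p : P.asIdeal.ResidueField) = 0 := by
      rw [← map_natCast (algebraMap R P.asIdeal.ResidueField), CharP.cast_eq_zero, map_zero]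
    exact ringChar.of_eq (CharP.ringChar_of_prime_eq_zero hp h0)
  haveI : ∀ P : PrimeSpectrum R, CharP (η.obj P.asIdeal.ResidueField) p := fun P =>
    charP_of_injective_ringHom (η.eta P.asIdeal.ResidueField).injective p
  obtain ⟨c, hc⟩ := exists_eq_of_isIntegralElem (z := z) (η.eta _) (by
    rw [hn]
    obtain ⟨P, hP, h0⟩ := hy
    letI := ((η.eta (⊥ : Ideal R).ResidueField).comp (algebraMap R (⊥ : Ideal R).ResidueField)).toAlgebra
    exact (show IsIntegral R y from ⟨P, hP, h0⟩).pow _)
  have hroot : ∀ P : PrimeSpectrum R, ∃ w : η.obj P.asIdeal.ResidueField, w ^ p ^ n = η.t R c P := fun P => by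
    haveI := hperf (η.obj P.asIdeal.ResidueField) ((ringChar.eq _ p).trans (ringChar.eq R p).symm) (closed_obj η _)
    haveI : ExpChar (η.obj P.asIdeal.ResidueField) p := ExpChar.prime hp
    obtain ⟨w, hw⟩ := (bijective_iterateFrobenius (R := η.obj P.asIdeal.ResidueField) (p := p) n).2 (η.t R c P)
    exact ⟨w, by rw [← hw, iterateFrobenius_def]⟩
  choose x hx using hroot
  have hxc : (x : η.N R) ^ p ^ n = η.t R c := funext hx
  refine ⟨x, mem_M_of_pow η p n (fun P => ExpChar.prime hp) hxc, ?_⟩
  haveI : ExpChar (η.obj (⊥ : Ideal R).ResidueField) p :=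
    expChar_of_injective_ringHom (η.eta _).injective p
  refine pow_inj p (n := n) ?_
  rw [← hn, ← hc]
  exact hx _

theorem image_generic
    (hη : η.InV R ∨ ∀ (k : Type u) [Field k], ringChar k = ringChar R →
      Function.Bijective (η.eta k) → PerfectField k) :
    (fun x : η.N R => x ⟨⊥, Ideal.isPrime_bot⟩) '' (η.M R : Set (η.N R)) =
      {y | ((η.eta (⊥ : Ideal R).ResidueField).comp (algebraMap R (⊥ : Ideal R).ResidueField)).IsIntegralElem y} := by
  refine Set.Subset.antisymm ?_ fun y hy => exists_mem_M_of_integral η hη hy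
  rintro _ ⟨x, hx, rfl⟩
  have := isIntegralElem_val η hx (closed_obj η _) (gpt η (⟨⊥, Ideal.isPrime_bot⟩ : PrimeSpectrum R))
  rwa [val_gpt] at this

end Groth.Agent.H23EtaPt
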